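import Cfsg.Agent.HZ.L.Ind
import Cfsg.Agent.HZ.L.Tau.Main
import Cfsg.Agent.HZ.L.SL.Fm

/-!
# HZ/L/T3: the Levi subgroup above the centraliser of a semisimple element (helper4)

`conn` : centralisers of elements of the torus are connected in Levi subgroups of `SL`, `SU`;
`lev` : the centraliser of a non central semisimple element lies in a proper sub-datum which is stable under its normaliser.
-/

set_option autoImplicit false
set_option linter.unusedSectionVars false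

namespace Cfsg.Agent.HZ.L.T3.Lev

open Cfsg Cfsg.Agent.DL Cfsg.Agent.DL.PP Cfsg.Agent.DL.Uni Cfsg.Agent.DL.Asm Cfsg.Agent.Nodes.Reps Matrix Cfsg.Agent.KZ.Lie
  Cfsg.Agent.HZ.Gen Subgroup

variable {p : ℕ} [Fact p.Prime] {k : Type} [Field k] [CharP k p] [IsAlgClosed k] {Y : Type} [Group Y] {N : Type}
  [Fintype N] [DecidableEq N] {ρ : Y →* GL N k} {F : MulAut Y} {G : Subgroup Y} {D : Datum p ρ F G} {j : ℕ} {B : Mat D.R}

/-- **connected centralisers** -/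
theorem conn (T : SL.TA (rts D) B) {t : Y} (ht : t ∈ D.T) : G ⊓ centralizer {t} = D.cen {t} := by
  have hZ : ({t} : Set Y) ⊆ D.T := Set.singleton_subset_iff.2 ht
  refine le_antisymm (fun g hg => ?_) (le_inf (D.cen_le_G _) (D.cen_le_centralizer hZ))
  obtain ⟨ζ, x, -, -, rfl⟩ := TO.X.Cn.exists_exp D ht
  obtain ⟨w, m, hm, hc, h⟩ := TO.X.Cn.exists_rep_pow D hZ hg.1 hg.2
  obtain ⟨lam, hl⟩ := T.int (orderOf ζ) x
  obtain ⟨π, h1, h2⟩ := T.perm (Wm_mem w)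
  have h3 : D.Wm w *ᵥ lam = lam := T.inj' (funext fun i => by
    obtain ⟨i, rfl⟩ := π.surjective i
    rw [h2]
    by_cases e : i = π i
    · rw [← e]
    have h4 := (hl _ (T.rt_mem e (h1 i).symm)).1 (by
      rw [T.dot, ← h2 x i, ← Pi.sub_apply, ← mulVec_sub]
      exact Finset.dvd_sum fun l _ => (TO.X.Cn.comm_exp D hm hc l).mul_left _)
    rwa [T.dot, sub_eq_zero] at h4)
  have h4 := (h 1).2 (by
    rw [pow_one]
    refine CF.mem_of_fix D (RL.lf D lam) (fun a ha e => TO.X.Cn.rf_mem_WZ D a ⟨ha, ?_⟩) fun a => ?_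
    · rintro _ rfl
      exact (TO.X.Cn.χ_exp D a x ζ).2 ((hl _ (rt_mem ha)).2 e)
    · rw [← RL.lf_act lam w a, h3])
  rwa [pow_one] at h4

theorem cen_top {Z : Set Y} (h : ∀ a, D.Rt a → a ∈ D.Sz Z) : G ≤ D.cen Z :=
  (RL.Lv_zero D).ge.trans (sup_le (D.T_le_cen Z) (Nodes.BNOf.RGD.Sup_le fun a ha => RL.X_le_cen (h a ha.1)))

theorem K_top (s : Sb D) : G ≤ s.K ↔ rts s.E = rts D := by
  refine ⟨fun h => s.rts_sub.antisymm ?_, fun h => cen_top (D := D.conj s.hy s.hF) fun a ha => ?_⟩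
  · rintro _ ⟨a, ha, rfl⟩
    exact s.mem_rts.2 ⟨a, RL.mem_Sz_of_le (D := D.conj s.hy s.hF) s.hZ ha (((D.conj s.hy s.hF).X_le_G ha).trans h), rfl⟩
  · obtain ⟨b, hb, e⟩ := s.mem_rts.1 (h.ge (rt_mem (D := D) ha))
    rwa [D.wt_injective (congrArg Prod.fst e)]

variable (r : ℕ) (t : GF F G) in
/-- the `r`-part of the centre of the centraliser -/
def Pt : Subgroup ↥(GF F G) where
  carrier := {g | (∃ i, g ^ r ^ i = 1) ∧ ∀ c ∈ G ⊓ centralizer {(t : Y)}, c * g = g * c}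
  one_mem' := ⟨⟨0, one_pow _⟩, fun c _ => by simp⟩
  mul_mem' := fun {a b} ⟨⟨i, hi⟩, ha⟩ ⟨⟨l, hl⟩, hb⟩ => by
    have h : Commute a b := Subtype.ext (hb a ⟨a.2.1, mem_centralizer_singleton_iff.2
      (ha t ⟨t.2.1, mem_centralizer_singleton_iff.2 rfl⟩).symm⟩)
    refine ⟨⟨i + l, ?_⟩, fun c hc => by rw [coe_mul, ← mul_assoc, ha c hc, mul_assoc, hb c hc, mul_assoc]⟩
    rw [h.mul_pow, pow_add, pow_mul, hi, one_pow, mul_comm (r ^ i), pow_mul, hl, one_pow, mul_one]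
  inv_mem' := fun {a} ⟨⟨i, hi⟩, ha⟩ => ⟨⟨i, by rw [inv_pow, hi, inv_one]⟩, fun c hc =>
    (show Commute c (a : Y) from ha c hc).inv_right.eq⟩

theorem Pt_grp (r : ℕ) (t : GF F G) : IsPGroup r (Pt r t) := fun g => g.2.1.imp fun _ e => Subtype.ext e

theorem cen_le_Pt (r : ℕ) (t : GF F G) : centralizer {t} ≤ centralizer (Pt r t : Set (GF F G)) := fun g hg _ ha =>
  Subtype.ext (ha.2 g ⟨g.2.1, mem_centralizer_singleton_iff.2
    (congrArg Subtype.val (mem_centralizer_singleton_iff.1 hg))⟩).symm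

theorem conj_mem_Pt {r : ℕ} {t g a : GF F G} (h : ∀ y ∈ G, Commute y ((g⁻¹ * t * g * t⁻¹ : GF F G) : Y)) (ha : a ∈ Pt r t) :
    g⁻¹ * a * g ∈ Pt r t := by
  refine ⟨ha.1.imp fun i e => by rw [← inv_inv g, inv_inv g⁻¹, conj_pow, e, mul_one, mul_inv_cancel], fun c hc => ?_⟩
  have h1 : Commute c ((g : Y)⁻¹ * t * g) := by
    have h2 := (h c hc.1).mul_right (show Commute c (t : Y) from mem_centralizer_singleton_iff.1 hc.2)
    simpa using h2
  have h2 := ha.2 (g * c * (g : Y)⁻¹) ⟨G.mul_mem (G.mul_mem g.2.1 hc.1) (G.inv_mem g.2.1), mem_centralizer_singleton_iff.2 (by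
    calc _ = g * (c * ((g : Y)⁻¹ * t * g)) * (g : Y)⁻¹ := by group
      _ = _ := by rw [h1.eq]; group)⟩
  calc _ = (g : Y)⁻¹ * (g * c * (g : Y)⁻¹ * a) * g := by simp [mul_assoc]
    _ = _ := by rw [h2]; simp [mul_assoc]

/-- an element which moves `t` by a central element normalises the group -/
theorem mem_normalizer {r : ℕ} {t g : GF F G} (h : ∀ y ∈ G, Commute y ((g * t * g⁻¹ * t⁻¹ : GF F G) : Y)) :
    g ∈ normalizer (Pt r t : Set (GF F G)) := by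
  have h' : ∀ y ∈ G, Commute y ((g⁻¹ * t * g * t⁻¹ : GF F G) : Y) := fun y hy => by
    have h1 := (h g g.2.1).eq
    have h2 : g⁻¹ * t * g * t⁻¹ = (g * t * g⁻¹ * t⁻¹)⁻¹ := by
      have h3 : g * (g * t * g⁻¹ * t⁻¹) = g * t * g⁻¹ * t⁻¹ * g := Subtype.ext h1
      have h4 : t * (g * t * g⁻¹ * t⁻¹) = g * t * g⁻¹ * t⁻¹ * t := Subtype.ext (h t t.2.1).eq
      generalize hz : g * t * g⁻¹ * t⁻¹ = z at h3 h4
      have h5 : g * t = z * t * g := by rw [← hz]; group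
      have h6 : t * g = z⁻¹ * (g * t) := by rw [h5]; group
      rw [mul_assoc g⁻¹, h6, ← mul_assoc, ← mul_assoc, mul_assoc _ t, mul_inv_cancel, mul_one, mul_assoc,
        (show Commute g z from h3).inv_right.eq.symm, inv_mul_cancel_left]
    rw [h2]
    exact (h y hy).inv_right
  refine mem_normalizer_iff.2 fun a => ⟨fun ha => ?_, fun ha => ?_⟩
  · simpa only [inv_inv] using conj_mem_Pt (g := g⁻¹) (by simpa only [inv_inv] using h) ha
  · simpa [mul_assoc] using conj_mem_Pt h' ha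

variable [Fintype ↥(GF F G)] {χ : ↥(GF F G) → ℂ}

/-- **the Levi subgroup above a centraliser** -/
theorem lev (hS : SbP D) (h : St D j B) (T : SL.TA (rts D) B) (hR : Rich D B χ) {t : GF F G} (ht : ¬ p ∣ orderOf t)
    (hz : ¬ ∀ y ∈ G, Commute y (t : Y)) : ∃ (r : ℕ) (s : Sb D) (lam : Vec D.R), Hu D r ∧ RatR r χ ∧ s.For r (Pt r t) ∧
      rts s.E = L.lev (rts D) lam ∧ L.lev (rts D) lam ≠ rts D := by
  obtain ⟨T', hT, h1⟩ := (sys' D).toral t.2 (by rwa [IsSs, orderOf_coe])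
  obtain ⟨y, hy, w, hw, rfl⟩ := exists_y hT
  obtain ⟨ζ, x, -, -, hx⟩ := TO.X.Cn.exists_exp D (mem_cj.1 h1)
  have hx' : (t : Y) = y * D.τ (coch x ζ) * y⁻¹ := by rw [← hx]; group
  have h4 := Tau.fix_dvd hw (hx' ▸ t.2.2)
  obtain ⟨lam, hl⟩ := T.int (orderOf ζ) x
  have h5 : ¬ Perp (rts D) lam := fun e => hz fun g hg => by
    have e' := τ_central (D := D) (a := coch x ζ) fun b hb => by
      rw [chr_coch, ← orderOf_dvd_iff_zpow_eq_one]
      exact (hl _ (rt_mem hb)).2 (e _ (rt_mem hb))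
    rw [hx', e' y hy, mul_inv_cancel_right]
    exact e' g hg
  obtain ⟨μ, y₀, mu, k1, k2, k3, k4, k5⟩ := h.exists_eig (w := w) (Ψ := {a | a ∈ rts D ∧ (orderOf ζ : ℤ) ∣ a.1 ⬝ᵥ x})
    ((h.nm_iff fun _ h => h.1).2 fun a ha e => ⟨rt_mem ((D.g_root a ha).act w), by
      have k1 := congrArg (· ⬝ᵥ x) (wt_gw w ha)
      have k2 : (orderOf ζ : ℤ) ∣ D.wt (D.act w (D.g a)) ⬝ᵥ ((D.Wm w * D.Mx - 1) *ᵥ x) :=
        Finset.dvd_sum fun i _ => (h4 i).mul_left _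
      simp only [← dotProduct_mulVec, smul_dotProduct, smul_eq_mul] at k1
      rw [sub_mulVec, one_mulVec, dotProduct_sub, k1] at k2
      exact (dvd_sub_right (e.2.mul_left _)).1 k2⟩) (fun a e => ⟨e.1, (hl a e.1).1 e.2⟩) (lev_ne.2 h5)
  obtain ⟨r, hr, r1, r2⟩ := hR w μ k2
  obtain ⟨z, z1, z2⟩ := r1 w y₀ k1
  obtain ⟨P, s₀, -, s1, s2, -, s3⟩ := hS.vec r hr.prime hr.ne hr.not_dvd w z mu z1 fun a ha => (z2 a ha).trans (k3 a ha).symm
  obtain ⟨g, hg, s4⟩ := s3 y hy hw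
  obtain ⟨s, nu, h6, h7⟩ := hS.grp r hr.prime hr.ne hr.not_dvd (Pt r t) (Pt_grp r t)
  refine ⟨r, s, nu, hr, r2, h6, h7, fun e => k5 (s2.symm.trans ((K_top s₀).1 fun a ha => ?_))⟩
  have h8 : ∀ c ∈ G ⊓ centralizer {(t : Y)}, g * c * g⁻¹ ∈ s₀.K := fun c hc => by
    have h9 : y⁻¹ * c * y ∈ D.cen {D.τ (coch x ζ)} := (conn T (D.τ_mem _)).le
      ⟨G.mul_mem (G.mul_mem (G.inv_mem hy) hc.1) hy, mem_centralizer_singleton_iff.2 (by
        rw [← hx, show y⁻¹ * c * y * (y⁻¹ * t * y) = y⁻¹ * (c * t) * y by group, mem_centralizer_singleton_iff.1 hc.2]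
        group)⟩
    rw [s4, cj_mul, conj_mem_cj, mem_cj]
    have h10 : D.Sz {D.τ (coch x ζ)} ⊆ {a | D.Rt a ∧ D.wt a ⬝ᵥ mu = 0} := fun b hb => ⟨hb.1, (k4 (a := (D.wt b, D.cor b))
      ⟨rt_mem hb.1, (TO.X.Cn.χ_exp D b x ζ).1 (hb.2 _ rfl)⟩).2⟩
    exact (sup_le_sup_left (Nodes.BNOf.RGD.Sup_mono h10) _ : D.cen _ ≤ _) h9
  rw [s1.cen]
  refine ⟨ha, ?_⟩
  rintro _ ⟨b, hb, rfl⟩
  have h9 : (⟨g, hg⟩⁻¹ * b * ⟨g, hg⟩ : GF F G) ∈ Pt r t := by
    refine ⟨(s1.grp ⟨b, hb⟩).imp fun i e => ?_, fun c hc => ?_⟩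
    · rw [← inv_inv (⟨g, hg⟩ : GF F G), inv_inv (⟨g, hg⟩ : GF F G)⁻¹, conj_pow, show b ^ r ^ i = 1 from congrArg Subtype.val e,
        mul_one, mul_inv_cancel]
    · have h10 : (b : Y) * (g * c * g⁻¹) = g * c * g⁻¹ * b := (s1.cen.le (h8 c hc)).2 _ ⟨b, hb, rfl⟩
      show c * (g⁻¹ * b * g) = g⁻¹ * b * g * c
      calc _ = g⁻¹ * (g * c * g⁻¹ * b) * g := by group
        _ = _ := by rw [← h10]; group
  have h10 : g⁻¹ * b * g * (g⁻¹ * a * g) = g⁻¹ * a * g * (g⁻¹ * b * g) :=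
    (h6.cen.le ((K_top s).2 (h7.trans e) (mul_mem (mul_mem (inv_mem hg.1) ha) hg.1))).2 _ ⟨_, h9, rfl⟩
  show (b : Y) * a = a * b
  calc _ = g * (g⁻¹ * b * g * (g⁻¹ * a * g)) * g⁻¹ := by group
    _ = _ := by rw [h10]; group

/-- the values on the section of `t` -/
theorem val {r : ℕ} (hr : Hu D r) (hχ : IsIrrCharacter _ χ) (hR : RatR r χ) {t g : GF F G} (hu : IsPPart 2 g t) :
    rs r (Pt r t) χ g = χ g := by
  have := Fact.mk hr.prime
  have h4 := two_le_sz D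
  have h5 := hr.lt (m := sz D ^ 10) le_rfl (by norm_num)
  have h6 : sz D ^ 4 * 1 + 1 ≤ sz D ^ 5 := by
    have := Nat.one_le_pow 4 (sz D) (by omega)
    rw [pow_succ _ 4]
    nlinarith
  refine hr.big_GF.curtis' (Pt_grp r t) (sm_irr hχ hR) (hr.bd_nb (i := 0) le_rfl (by norm_num)) (fun e => ?_) hu
    (cen_le_Pt r t (mem_centralizer_singleton_iff.2 rfl)) (fun y hy _ => cen_le_Pt r t (mem_centralizer_singleton_iff.2 hy))
    (pc_le_sz D) ?_
  · have := hr.lt (m := 1) (i := 0) le_rfl (by norm_num)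
    omega
  · refine ((Nat.pow_le_pow_left h6 2).trans ?_).trans_lt (Nat.lt_of_succ_lt h5)
    rw [← pow_mul]

variable (F G) in
/-- the rational points of the centre -/
def ZF : Subgroup ↥(GF F G) where
  carrier := {z | ∀ y ∈ G, Commute y (z : Y)}
  one_mem' := fun _ _ => Commute.one_right _
  mul_mem' := fun ha hb y hy => (ha y hy).mul_right (hb y hy)
  inv_mem' := fun ha y hy => (ha y hy).inv_right

theorem ZF_le : ZF F G ≤ center ↥(GF F G) := fun _ hz => mem_center_iff.2 fun g => Subtype.ext (hz g g.2.1).eq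

/-- an element of a `2`-group which is central modulo a central subgroup -/
theorem exists_t {H : Type*} [Group H] [Finite H] {l : ℕ} [Fact l.Prime] {S Z : Subgroup H} (hS : IsPGroup l S)
    (hZ : Z ≤ center H) (h : ¬ S ≤ Z) : ∃ t ∈ S, t ∉ Z ∧ ∀ g ∈ S, g * t * g⁻¹ * t⁻¹ ∈ Z := by
  have : (Z.subgroupOf S).Normal := ⟨fun a ha g => by
    have h1 : g * a = a * g := Subtype.ext (mem_center_iff.1 (hZ ha) g)
    rwa [h1, mul_inv_cancel_right]⟩
  have : Nontrivial (S ⧸ Z.subgroupOf S) := QuotientGroup.nontrivial_iff.2 fun e => h (subgroupOf_eq_top.1 e)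
  have := (hS.to_quotient (Z.subgroupOf S)).center_nontrivial
  obtain ⟨⟨x, hx⟩, h1⟩ := exists_ne (1 : center (S ⧸ Z.subgroupOf S))
  obtain ⟨t, rfl⟩ := QuotientGroup.mk_surjective x
  refine ⟨t, t.2, fun e => h1 (Subtype.ext ((QuotientGroup.eq_one_iff t).2 e)), fun g hg => ?_⟩
  have h2 : ((⟨g, hg⟩ * t * ⟨g, hg⟩⁻¹ * t⁻¹ : S) : S ⧸ Z.subgroupOf S) = 1 := by
    rw [QuotientGroup.mk_mul, QuotientGroup.mk_mul, QuotientGroup.mk_mul, mem_center_iff.1 hx, QuotientGroup.mk_inv,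
      QuotientGroup.mk_inv, mul_inv_cancel_right, mul_inv_cancel]
  exact (QuotientGroup.eq_one_iff (N := Z.subgroupOf S) _).1 h2

/-- **[LEV]** -/
theorem main (hp : p ≠ 2) (hS : SbP D) (h : St D j B) (T : SL.TA (rts D) B) (hχ : IsIrrCharacter _ χ) (hR : Rich D B χ)
    {S : Subgroup ↥(GF F G)} (h1 : IsPGroup 2 S) (h2 : ¬ S ≤ ZF F G) : ∃ t ∈ S, ∃ (r : ℕ) (P : Subgroup ↥(GF F G)) (s : Sb D)
      (lam : Vec D.R), Hu D r ∧ RatR r χ ∧ s.For r P ∧ rts s.E = L.lev (rts D) lam ∧ L.lev (rts D) lam ≠ rts D ∧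
        centralizer {t} ≤ centralizer (P : Set (GF F G)) ∧ S ≤ normalizer (P : Set (GF F G)) ∧
        (∀ g ∈ S, g * t * g⁻¹ * t⁻¹ ∈ center ↥(GF F G)) ∧ ∀ g, IsPPart 2 g t → rs r P χ g = χ g := by
  obtain ⟨t, ht, h3, h4⟩ := exists_t h1 ZF_le h2
  obtain ⟨r, s, lam, h5, h6, h7, h8, h9⟩ := lev hS h T hR (t := t) (fun e => by
    obtain ⟨i, hi⟩ := h1 ⟨t, ht⟩
    exact hp ((Nat.prime_dvd_prime_iff_eq Fact.out Nat.prime_two).1 ((Fact.out : p.Prime).dvd_of_dvd_pow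
      (e.trans (orderOf_dvd_of_pow_eq_one (congrArg Subtype.val hi)))))) h3
  exact ⟨t, ht, r, _, s, lam, h5, h6, h7, h8, h9, cen_le_Pt r t, fun g hg => mem_normalizer (h4 g hg),
    fun g hg => ZF_le (h4 g hg), fun g hg => val h5 hχ h6 hg⟩

end Cfsg.Agent.HZ.L.T3.Lev
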