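import Cfsg.Agent.HZ.L.T3.Lev
import Cfsg.Agent.HZ.L.T3.Idx1
import Cfsg.Agent.HZ.L.Reg.Main
import Cfsg.Agent.HZ.L.Pk

/-!
# HZ/L/T3: characters which vanish on sections (helper4)

`van` : a character which vanishes on the section of an `l`-element of a torus and meets at most one `l`-part of labels;
`has_odd` : the label of the character of a block with central defect group which is trivial on the defect group;
`exists_reg` : a regular embedding which keeps the tori.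
-/

set_option autoImplicit false
set_option linter.unusedSectionVars false

namespace Cfsg.Agent.HZ.L.T3.Van

open Cfsg Cfsg.Agent.DL Cfsg.Agent.DL.PP Cfsg.Agent.DL.Uni Cfsg.Agent.DL.Asm Cfsg.Agent.Nodes.Reps Matrix Cfsg.Agent.KZ.Lie
  Cfsg.Agent.HZ.Gen Cfsg.Agent.LV.Blk Cfsg.Agent.Blocks.PPart Cfsg.Agent.Characters.Core Subgroup
open scoped ComplexConjugate

/-- sums of functions which are supported on the sections of a central subgroup -/
theorem sum_sec {H : Type*} [Group H] [Fintype H] {l : ℕ} [Fact l.Prime] {S : Subgroup H} [Fintype S] (hS : IsPGroup l S)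
    (hZ : S ≤ center H) {a : H → ℂ} (h : ∀ g u, IsPPart l g u → u ∉ S → a g = 0) :
    ∑ g, a g = ∑ z : S, ∑ g, reg l g * a (z * g) := by
  have h1 : ∀ z : S, ∑ g, reg l g * a (z * g) = ∑ g, reg l ((z : H)⁻¹ * g) * a g := fun z =>
    Fintype.sum_equiv (Equiv.mulLeft (z : H)) _ _ fun g => by rw [Equiv.coe_mulLeft, inv_mul_cancel_left]
  rw [Finset.sum_congr rfl fun z _ => h1 z, Finset.sum_comm]
  refine Finset.sum_congr rfl fun g _ => ?_
  obtain ⟨u, hu⟩ := exists_isPPart l g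
  by_cases e : u ∈ S
  · rw [Finset.sum_eq_single ⟨u, e⟩ (fun z _ hz => ?_) (fun e => absurd (Finset.mem_univ _) e), reg_of, one_mul]
    · obtain ⟨y, rfl, -, -, h2⟩ := hu
      rwa [inv_mul_cancel_left]
    · rw [reg_of_not (by_contra fun h2 => hz (Subtype.ext (isPPart_unique ⟨_, mul_inv_cancel_left _ _,
        (mem_center_iff.1 (hZ z.2) _).symm, ord_of_mem hS z.2, h2⟩ hu))), zero_mul]
  · simp [h g u hu e]

variable {p : ℕ} [Fact p.Prime] {k : Type} [Field k] [CharP k p] [IsAlgClosed k] {Y : Type} [Group Y] {N : Type}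
  [Fintype N] [DecidableEq N] {ρ : Y →* GL N k} {F : MulAut Y} {G : Subgroup Y} {D : Datum p ρ F G} [Fintype ↥(GF F G)]
  {f : Fr D} {l : ℕ} {w : D.W} {c η : Lbl D} {χ ψ : ↥(GF F G) → ℂ}

theorem th_reg (hl : l.Prime) (h : η ∈ LV.Blk.LS D l w) {t : Y} (ht : t ∈ Tw D w ⊓ GF F G) (h1 : ¬ l ∣ orderOf t) :
    th f w η t = 1 := by
  obtain ⟨j, hj⟩ := h.2
  refine (pow_eq_one_iff_of_coprime ((hl.coprime_iff_not_dvd.2 h1).pow_left j)).1 ⟨?_, ?_⟩
  · rw [← th_pow f h.1 _ ht, hj, th_one w t ht]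
  · rw [← th_pow' f h.1 _ ht, pow_orderOf_eq_one, (th_spec f h.1).1.one]

/-- the values at `l`-regular elements -/
theorem RW_reg (hl : l.Prime) (hp : l ≠ p) (hc : Fx D w c) (h : η ∈ LV.Blk.LS D l w) (g : GF F G) :
    reg l g * RW f w (c * η) g = reg l g * RW f w c g := by
  rw [RW_apply, RW_apply, ← reg_coe, ← (sys' D).pconst _ (Tw_mem w) _ _ (pconst_reg Fact.out hl hp _) g g.2,
    ← (sys' D).pconst _ (Tw_mem w) _ _ (pconst_reg Fact.out hl hp _) g g.2]
  refine (sys' D).R_congr (Tw_mem w) (fun t ht => ?_) g g.2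
  by_cases e : l ∣ orderOf t
  · rw [Pi.mul_apply, Pi.mul_apply, reg_of_not e, zero_mul, zero_mul]
  · rw [Pi.mul_apply, Pi.mul_apply, th_mul hc h.1 t ht, th_reg hl h ht e, mul_one]

/-- **the label without its `l`-part** -/
theorem has_odd [hl : Fact l.Prime] (hp : l ≠ p) (hχ : IsIrrCharacter _ χ) {S : Subgroup ↥(GF F G)} (hS : IsPGroup l S)
    (hZ : S ≤ Lev.ZF F G) (h1 : ∀ g, ¬ l ∣ orderOf g → ψ g = χ g) (h2 : ∀ z ∈ S, ∀ g, ψ (z * g) = ψ g)
    (h3 : ∀ g u, IsPPart l g u → u ∉ S → χ g = 0 ∧ ψ g = 0) (hc : Fx D w c) {n : ℕ} (hn : ¬ l ∣ n) (e : c ^ n = 1)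
    (hη : η ∈ LV.Blk.LS D l w) (h : Has f χ w (c * η)) : Has f ψ w c := fun h0 => h (by
  have := Fintype.ofFinite S
  have hZ' := hZ.trans Lev.ZF_le
  have h4 : ∑ g : GF F G, reg l g * (χ g * conj (RW f w (c * η) g)) = 0 := by
    rw [classInner_def, sum_sec hS hZ' fun g u a b => by rw [(h3 g u a b).2, zero_mul],
      Finset.sum_congr rfl (g := fun _ => ∑ g : GF F G, reg l g * (χ g * conj (RW f w (c * η) g))) fun z _ => ?_,
      Finset.sum_const, nsmul_eq_mul] at h0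
    · exact (mul_eq_zero.1 ((mul_eq_zero.1 h0).resolve_left (inv_ne_zero (Nat.cast_ne_zero.2 Nat.card_pos.ne')))).resolve_left
        (Nat.cast_ne_zero.2 Fintype.card_ne_zero)
    · refine Finset.sum_congr rfl fun g _ => ?_
      obtain ⟨i, hi⟩ := ord_of_mem hS z.2
      rw [h2 z z.2, RW_cen' f z (fun y hy => (hZ z.2 y hy).eq) w c n e
        (hi ▸ ((hl.out.coprime_iff_not_dvd.2 hn).pow_left i).symm), mul_left_comm, mul_left_comm _ (χ g), ← conj_reg, ← map_mul,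
        ← map_mul, RW_reg hl.out hp hc hη]
      by_cases e : l ∣ orderOf g
      · rw [reg_of_not e, zero_mul, map_zero, mul_zero, mul_zero]
      · rw [h1 g e]
  obtain ⟨ω, hω⟩ := exists_omega hχ S.subtype fun z => hZ' z.2
  rw [classInner_def, sum_sec hS hZ' fun g u a b => by rw [(h3 g u a b).1, zero_mul], Finset.sum_eq_zero fun z _ => ?_, mul_zero]
  have h5 : ((z : GF F G) : Y) ∈ Tw D w ⊓ GF F G := ⟨central_mem z.1.2.1 (fun y hy => (hZ z.2 y hy).eq) (yw_mem D w), z.1.2⟩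
  rw [← mul_zero (ω z * conj (th f w (c * η) (z : GF F G))), ← h4, Finset.mul_sum]
  refine Finset.sum_congr rfl fun g _ => ?_
  rw [show χ (z * g) = ω z * χ g from hω z g, RW_apply, RW_apply, coe_mul,
    R_central h5 (fun y hy => (hZ z.2 y hy).eq) (th_spec f (fx_mul hc hη.1)).1 g.2.1, map_mul]
  ring)

open Classical in
/-- **vanishing on a section** -/
theorem van [hl : Fact l.Prime] (hp : l ≠ p) {u : GF F G} (hu : (u : Y) ∈ Tw D w) (h1 : ∃ i, orderOf u = l ^ i)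
    (h2 : ∀ g x, IsPPart l g x → IsConj u x → χ g = 0) (h3 : ∀ η ∈ LV.Blk.LS D l w, η ≠ 1 → ¬ Has f χ w (c * η)) :
    ¬ Has f χ w c := fun h => h (by
  have hc := h.fx
  have := Fintype.ofFinite (LV.Blk.LS D l w)
  obtain ⟨n, hn⟩ := exists_pow_eq (G := GF F G) l
  have hu' : (u : Y)⁻¹ ∈ Tw D w ⊓ GF F G := inv_mem ⟨hu, u.2⟩
  let φ : Y → ℂ := fun g => if ∃ x ∈ GF F G, g ^ n = x * u * x⁻¹ then 1 else 0
  have h4 : PConst p (GF F G) φ := ⟨fun g _ x hx => if_congr ⟨fun ⟨y, hy, e⟩ => ⟨x⁻¹ * y, mul_mem (inv_mem hx) hy, by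
    rw [conj_pow] at e
    rw [← inv_mul_cancel_left x (g ^ n), ← mul_inv_cancel_right (x⁻¹ * _) x⁻¹, mul_assoc x⁻¹, e]
    group⟩, fun ⟨y, hy, e⟩ => ⟨x * y, mul_mem hx hy, by rw [conj_pow, e]; group⟩⟩ rfl rfl, fun s _ v hv _ ⟨i, hi⟩ e => by
      have h5 : v ^ n = 1 := congrArg Subtype.val (hn ⟨v, hv⟩ 1 (isPPart_of_not_dvd fun e => hp
        ((Nat.prime_dvd_prime_iff_eq hl.out Fact.out).1 (hl.out.dvd_of_dvd_pow (hi ▸ orderOf_mk (H := GF F G) v hv ▸ e)))))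
      simp only [φ, (show Commute s v from e).mul_pow, h5, mul_one]⟩
  let δ : Y → ℂ := ∑ η : LV.Blk.LS D l w, th f w η (u : Y)⁻¹ • th f w (c * η)
  have h5 : ∀ g : GF F G, (∑ η : LV.Blk.LS D l w, th f w η (u : Y)⁻¹ • RW f w (c * η)) g = φ g * R D (Tw D w) δ g := fun g => by
    rw [← (sys' D).pconst _ (Tw_mem w) _ _ h4 g g.2, (sys' D).R_congr (Tw_mem w) (g := δ) (fun t ht => ?_) g g.2, map_sum,
      Finset.sum_apply, Finset.sum_apply]
    · exact Finset.sum_congr rfl fun η _ => by rw [map_smul]; rfl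
    by_cases e : l ∣ orderOf ((u : Y)⁻¹ * t)
    · have h6 : δ t = 0 := by
        refine (Finset.sum_apply _ _ _).trans ?_
        rw [ Finset.sum_congr rfl (g := fun η : LV.Blk.LS D l w => th f w c t * th f w η ((u : Y)⁻¹ * t)) fun η _ => by
          rw [Pi.smul_apply, th_mul hc η.2.1 t ht, (th_spec f η.2.1).1.mul _ hu' _ ht, smul_eq_mul, mul_left_comm],
          ← Finset.mul_sum, sum_th f hl.out (mul_mem hu' ht), reg_of_not e, mul_zero, mul_zero]
      rw [Pi.mul_apply, h6, mul_zero]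
    · have h6 := hn ⟨t, ht.2⟩ u ⟨u⁻¹ * ⟨t, ht.2⟩, mul_inv_cancel_left _ _, (Commute.refl u).inv_right.mul_right
        (Subtype.ext ((sys' D).comm _ (Tw_mem w) _ ⟨hu, u.2⟩ _ ht)), h1, by rwa [← orderOf_coe]⟩
      rw [Pi.mul_apply, show φ t = 1 from if_pos ⟨1, one_mem _, by simpa using congrArg Subtype.val h6⟩, one_mul]
  have h6 : classInner χ (∑ η : LV.Blk.LS D l w, th f w η (u : Y)⁻¹ • RW f w (c * η)) = 0 := by
    rw [classInner_def, Finset.sum_eq_zero fun g _ => ?_, mul_zero]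
    rw [h5]
    by_cases e : ∃ x ∈ GF F G, (g : Y) ^ n = x * u * x⁻¹
    · obtain ⟨x, hx, e⟩ := e
      obtain ⟨y, hy⟩ := exists_isPPart l g
      rw [h2 g y hy (isConj_iff.2 ⟨⟨x, hx⟩, Subtype.ext (e.symm.trans (congrArg Subtype.val (hn g y hy)))⟩), zero_mul]
    · rw [show φ g = 0 from if_neg e, zero_mul, map_zero, mul_zero]
  rwa [classInner_sum_right, Finset.sum_eq_single 1 (fun η _ e => by
    rw [classInner_smul_right, not_not.1 (h3 η η.2 fun e' => e (Subtype.ext e')), mul_zero]) (fun e => absurd (Finset.mem_univ _) e),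
    OneMemClass.coe_one, th_one w _ hu', one_smul, mul_one] at h6)

/-- a label which is trivial on the coroots is fixed by the Weyl group -/
theorem tl_self {R : Type} [Fintype R] [DecidableEq R] {Ψ : RS R} {c : Lb R} (h : ∀ a ∈ Ψ, chr a.2 c = 1) {A : Mat R}
    (hA : A ∈ WW Ψ) : Tl A c c := by
  induction hA using Submonoid.closure_induction with
  | mem x hx =>
    obtain ⟨a, ha, rfl⟩ := hx
    intro v
    rw [rfm, sub_mulVec, one_mulVec, vecMulVec_mulVec, chr_sub, op_smul_eq_smul, chr_zsmul, h a ha]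
    simp
  | one => exact tl_one c
  | mul x y _ _ hx hy => exact hy.trans hx

/-- the involutions of a torus -/
theorem exists_inv (hp : p ≠ 2) {x : Vec D.R} (hx : ∀ i, (2 : ℤ) ∣ ((D.Wm w * D.Mx - 1) *ᵥ x) i) {a : Vec D.R × Vec D.R}
    (ha : a ∈ rts D) (h : ¬ (2 : ℤ) ∣ a.1 ⬝ᵥ x) : ∃ u : GF F G, (u : Y) ∈ Tw D w ∧ orderOf u = 2 ∧ u ∉ Lev.ZF F G := by
  obtain ⟨b, hb, rfl⟩ := ha
  have h1 : orderOf (-1 : kˣ) = 2 := by
    rw [← orderOf_units, Units.val_neg, Units.val_one, orderOf_neg_one, ringChar.eq k p, if_neg hp]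
  have h0 := IsPrimitiveRoot.orderOf (-1 : kˣ)
  rw [h1] at h0
  have hy := yw_mem D w
  let u : GF F G := ⟨yw D w * D.τ (coch x (-1)) * (yw D w)⁻¹, G.mul_mem (G.mul_mem hy (D.T_le_G (D.τ_mem _))) (G.inv_mem hy),
    DL.mem_fix.2 (by rw [F_cj hy (yw_rp D w), (mon_coch_iff h0 _ x).2 hx])⟩
  have h2 : u ∉ Lev.ZF F G := fun e => h (by
    have h3 := (e _ (G.mul_mem (G.mul_mem hy (D.X_le_G hb (D.x_mem hb 1))) (G.inv_mem hy))).eq
    have h4 := D.tor' hb (D.τ_mem (coch x (-1))) 1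
    rw [show D.τ (coch x (-1)) * D.x b 1 = D.x b 1 * D.τ (coch x (-1)) from mul_left_cancel (a := yw D w) (by
      simpa [u, ← mul_assoc] using h3.symm),
      mul_inv_cancel_right, mul_one] at h4
    have h5 := (TO.X.Cn.χ_exp D b x (-1)).1 (D.x_inj b hb h4).symm
    rwa [h1] at h5)
  refine ⟨u, conj_mem_cj.2 (D.τ_mem _), orderOf_eq_prime (Subtype.ext ?_) fun e => h2 (e ▸ one_mem _), h2⟩
  rw [coe_pow, conj_pow, ← map_pow, show coch x (-1 : kˣ) ^ 2 = 1 from funext fun i => by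
    rw [Pi.pow_apply, coch_apply, ← zpow_natCast, ← _root_.zpow_mul, mul_comm, _root_.zpow_mul, zpow_natCast, neg_one_sq,
      _root_.one_zpow, Pi.one_apply], map_one, mul_one, mul_inv_cancel, coe_one]

open Reg in
theorem tor_io (w : D.W) (u : GF F G) (hu : (u : Y) ∈ Tw D w) :
    ∃ u' : GF (FF D) ⊤, (u' : YY D) ∈ Tw (DD D) w ∧ IsConj (io D u) u' := by
  obtain ⟨m, hm, h1⟩ := exists_fix (D := DD D) trivial (rp_lang (yw_mem D w) (yw_rp D w)) (yw_rp (DD D) w)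
    (tc_one (D := DD D) w)
  have h2 := (DD D).conj_mem_T ⟨1, hm⟩ (mem_cj.1 ((iY_mem_cj u.2.1 (yw_mem D w) fun _ => iY_mem_T).2 hu))
  refine ⟨_, mem_cj.2 ?_, isConj_iff.2 ⟨⟨_, trivial, h1⟩, rfl⟩⟩
  show (yw (DD D) w)⁻¹ * (yw (DD D) w * m * (iY D (yw D w))⁻¹ * iY D u * (yw (DD D) w * m * (iY D (yw D w))⁻¹)⁻¹) *
    yw (DD D) w ∈ _
  generalize yw (DD D) w = a, iY D (yw D w) = b, iY D u = c at h2 ⊢
  rwa [show a⁻¹ * (a * m * b⁻¹ * c * (a * m * b⁻¹)⁻¹) * a = m * (b⁻¹ * c * b) * m⁻¹ by group]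

attribute [local instance] Reg.gY Reg.fN Reg.dN Reg.fin

open Reg in
/-- **a regular embedding which keeps the tori** -/
theorem exists_reg {j : ℕ} {B : Mat D.R} (h : St D j B) (f : Fr D) : ∃ R : Reg D f j B, ∀ (w : D.W) (u : GF F G),
    (u : Y) ∈ Tw D w → ∃ u' : GF R.F' R.G', (u' : R.Y') ∈ Tw R.D' (R.ω w) ∧ IsConj (R.ι u) u' := by
  obtain ⟨Q, hQ⟩ := exists_B h
  have := finite_GF (DD D)
  have := Fintype.ofFinite ↥(GF (FF D) ⊤)
  exact ⟨{
    Y' := YY D, N' := N ⊕ D.I, ρ' := rh D, F' := FF D, G' := ⊤, D' := DD D, f' := fr f, B' := _, st := hQ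
    cz := cz_DD D, J := Jm D, hB := blocks_Jm D B Q, ω := MulEquiv.refl _, hω := Wm_Jm D
    e := (rtE D).symm.trans (rtE (DD D))
    e₁ := fun a => by
      obtain ⟨b, rfl⟩ := (rtE D).surjective a
      rw [Equiv.trans_apply, Equiv.symm_apply_apply]
      exact vecMul_Jm D _ _
    e₂ := fun a => by
      obtain ⟨b, rfl⟩ := (rtE D).surjective a
      rw [Equiv.trans_apply, Equiv.symm_apply_apply]
      exact cor_DD D b.2
    ι := io D
    inj := fun a b e => Subtype.ext (iY_inj a.2.1 b.2.1 (congrArg Subtype.val e))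
    comm := fun g hg => mem_range_io (Abelianization.commutator_subset_ker ((nu D).comp (Subgroup.subtype _)) hg)
    res := RW_io f
    lift := fun _ _ => exists_lift
    lin := exists_lin f h.qs }, tor_io⟩

end Cfsg.Agent.HZ.L.T3.Van
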