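import Cfsg.Agent.HZ.L.Hz.Main
import Cfsg.Agent.HZ.Gen.Blk
import Cfsg.Agent.HZ.Gen.Cur
import Cfsg.Agent.HZ.Gen.Oth
import Cfsg.Agent.HZ.Red.Ind
import Cfsg.Agent.Blocks.Induced

/-!
# HZ/L/T3: a fixed constituent of height zero when the defect group normalises the subgroup (helper66)
-/

set_option autoImplicit false
set_option linter.unusedSectionVars false

namespace Cfsg.Agent.HZ.L.T3.Blk1

open Cfsg Subgroup Cfsg.Agent.HZ.Gen Cfsg.Agent.ODD.Red Cfsg.Agent.Characters Cfsg.Agent.Characters.Core Cfsg.Agent.Blocks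
  Cfsg.Agent.Blocks.LocalRing Cfsg.Agent.H650 Cfsg.Agent.OddOrderCharacters Cfsg.Agent.Blocks.PPart

variable {M : Ideal AlgInt} (hM : IsPModular 2 M)
include hM

open Classical in
theorem sum_fixed {Q Ω : Type} [Group Q] [MulAction Q Ω] [Fintype Ω] (hQ : IsPGroup 2 Q) {g : Ω → ℂ}
    (h1 : ∀ ω, MemLocalRing M (g ω)) (h2 : ∀ (u : Q) ω, g (u • ω) = g ω) (h : ¬ MemLocalIdeal M (∑ ω, g ω)) :
    ¬ MemLocalIdeal M (∑ ω, if ω ∈ MulAction.fixedPoints Q Ω then g ω else 0) := fun e => h (by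
  obtain ⟨a, ha⟩ := OrbitSum.sum_eq_sum_fixed_add_smul (A := locRing hM) hQ (fun ω => ⟨g ω, h1 ω⟩)
    fun u ω => Subtype.ext (h2 u ω)
  have h3 := congrArg (fun z : locRing hM => (z : ℂ)) ha
  simp only [AddSubmonoidClass.coe_finsetSum, Subring.coe_add, nsmul_eq_mul, Subring.coe_mul, Subring.coe_natCast] at h3
  rw [h3, Finset.sum_filter]
  exact memLocalIdeal_add hM e (memLocalIdeal_mul_right hM (memLocalIdeal_prime hM) a.2))

theorem sum_orbits {T Ω : Type} [Group T] [MulAction T Ω] [Fintype Ω] {g : Ω → ℂ} (h2 : ∀ (u : T) ω, g (u • ω) = g ω)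
    (h : ∀ ω, MemLocalIdeal M ((MulAction.stabilizer T ω).index * g ω)) : MemLocalIdeal M (∑ ω, g ω) := by
  classical
  have := Fintype.ofFinite (MulAction.orbitRel.Quotient T Ω)
  rw [← Finset.sum_fiberwise Finset.univ (Quotient.mk (MulAction.orbitRel T Ω))]
  refine memLocalIdeal_sum hM _ _ fun q _ => ?_
  obtain ⟨ω, rfl⟩ := q.exists_rep
  rw [Finset.sum_congr rfl (g := fun _ => g ω) fun x hx => ?_, Finset.sum_const, nsmul_eq_mul]
  · refine (congrArg (fun n : ℕ => MemLocalIdeal M (n * g ω)) ?_).mpr (h ω)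
    rw [MulAction.index_stabilizer, ← Set.ncard_coe_finset]
    exact congrArg _ (Set.ext fun x => by simp only [Finset.coe_filter, Finset.mem_univ, true_and]; exact Quotient.eq)
  · obtain ⟨u, rfl⟩ := Quotient.exact (Finset.mem_filter.1 hx).2
    exact h2 u ω

omit hM

/-- the action of automorphisms on the irreducible characters -/
noncomputable def aut (K : Type) [Group K] : MulAut K →* Equiv.Perm (IrrCharacter K) :=
  MonoidHom.toHomPerm
    { toFun := fun α ψ => ⟨fun g => (ψ : K → ℂ) (α⁻¹ g), isIrr_comp' (α⁻¹ : MulAut K).toMonoidHom (α⁻¹ : MulAut K).surjective ψ.2⟩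
      map_one' := rfl
      map_mul' := fun _ _ => rfl }

variable {H : Type} [Group H] [Fintype H] {χ : H → ℂ} {y : H} {S K : Subgroup H} [Fintype K]

/-- the action of the normaliser -/
noncomputable def na (K : Subgroup H) : normalizer (K : Set H) →* Equiv.Perm (IrrCharacter K) :=
  (aut K).comp K.normalizerMonoidHom

theorem na_apply (u : normalizer (K : Set H)) (ψ : IrrCharacter K) (x : K) :
    (na K u ψ : K → ℂ) (K.normalizerMonoidHom u x) = (ψ : K → ℂ) x :=
  congrArg (ψ : K → ℂ) ((K.normalizerMonoidHom u).symm_apply_apply x)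

theorem conj_iff (u : normalizer (K : Set H)) (x : K) : IsConj y (K.normalizerMonoidHom u x : H) ↔ IsConj y (x : H) :=
  have h : IsConj (x : H) (K.normalizerMonoidHom u x : H) := isConj_iff.2 ⟨u, rfl⟩
  ⟨fun e => e.trans h.symm, fun e => e.trans h⟩

open Classical in
theorem ind_eq (ψ : K → ℂ) : inducedCentralChar K ψ y = ∑ x : K, if IsConj y (x : H) then ψ x / ψ 1 else 0 := by
  rw [inducedCentralChar, finsum_mem_def, finsum_eq_sum_of_fintype]
  exact Finset.sum_congr rfl fun x _ => Set.indicator_apply _ _ _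

theorem ind_na (u : normalizer (K : Set H)) (ψ : IrrCharacter K) :
    inducedCentralChar K (na K u ψ : K → ℂ) y = inducedCentralChar K (ψ : K → ℂ) y := by
  classical
  rw [ind_eq, ind_eq, ← Equiv.sum_comp (K.normalizerMonoidHom u).toEquiv]
  refine Finset.sum_congr rfl fun x _ => ?_
  have h := na_apply u ψ 1
  rw [map_one] at h
  exact if_congr (conj_iff u x) (congrArg₂ (· / ·) (na_apply u ψ x) h) rfl

theorem odd_of_conj (ho : Odd (orderOf y)) {x : K} (h : IsConj y (x : H)) : Odd (orderOf x) := by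
  obtain ⟨c, hc⟩ := isConj_iff.1 h
  rwa [← orderOf_coe, ← hc, ← MulAut.conj_apply, MulEquiv.orderOf_eq]

theorem ind_act (ho : Odd (orderOf y)) {τ : ℂ ≃+* ℂ} (hτ : Two τ) (ψ : IrrCharacter K) :
    inducedCentralChar K (Hz.act K τ ψ : K → ℂ) y = inducedCentralChar K (ψ : K → ℂ) y := by
  rw [ind_eq, ind_eq]
  refine Finset.sum_congr rfl fun x _ => ?_
  split_ifs with h
  · rw [Hz.act_apply, Hz.act_apply, two_fix_odd (isIrr_isCharacter ψ.2) hτ (odd_of_conj ho h),
      two_fix_odd (isIrr_isCharacter ψ.2) hτ (by simp)]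
  · rfl

include hM

/-- the degree of an invariant character whose block induces a block with defect group `S` -/
theorem nu_le (hs : (Nat.card (centralizer {y})).factorization 2 ≤ (Nat.card S).factorization 2)
    (hK : S ≤ normalizer (K : Set H)) (ψ : IrrCharacter K) (h1 : ∀ s (h : s ∈ S), na K ⟨s, hK h⟩ ψ = ψ)
    (h2 : ¬ MemLocalIdeal M (inducedCentralChar K (ψ : K → ℂ) y)) :
    (Nat.card K).factorization 2 ≤ (charDegree (ψ : K → ℂ)).factorization 2 + (Nat.card ↥(K ⊓ S)).factorization 2 := by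
  classical
  by_contra h3
  let N := normalizer (K : Set H)
  let _ : MulAction N (IrrCharacter K) := MulAction.compHom _ (na K)
  let T := MulAction.stabilizer N ψ
  let _ : MulAction T K := MulAction.compHom _ (K.normalizerMonoidHom.comp T.subtype)
  have hKT : K.subgroupOf N ≤ T := fun u hu => Subtype.ext (funext fun x => by
    obtain ⟨x, rfl⟩ := (K.normalizerMonoidHom u).surjective x
    exact (na_apply u ψ x).trans (isIrr_isClassFunction ψ.2 x ⟨u, hu⟩).symm)
  have hST : S.subgroupOf N ≤ T := fun u hu => h1 u hu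
  have h4 : Nat.card K * Nat.card S ∣ Nat.card T * Nat.card ↥(K ⊓ S) := by
    have := normal_in_normalizer (H := K)
    have e1 := relIndex_mul_relIndex ⊥ _ _ bot_le hKT
    have e2 := relIndex_mul_relIndex _ _ _ le_sup_left (sup_le hKT hST)
    have e3 := relIndex_mul_relIndex ⊥ (K ⊓ S) S bot_le inf_le_right
    rw [relIndex_sup_left, relIndex_subgroupOf hK] at e2
    rw [relIndex_bot_left, relIndex_bot_left, Nat.card_congr (subgroupOfEquivOfLe le_normalizer).toEquiv, ← e2] at e1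
    rw [relIndex_bot_left, relIndex_bot_left, inf_relIndex_right] at e3
    exact ⟨(K.subgroupOf N ⊔ S.subgroupOf N).relIndex T, by rw [← e1, ← e3]; ring⟩
  refine h2 (ind_eq (ψ : K → ℂ) ▸ sum_orbits hM (T := T) (fun u x => ?_) fun x => ?_)
  · have e := na_apply u.1 ψ x
    rw [show na K u.1 ψ = ψ from u.2] at e
    exact if_congr (conj_iff u.1 x) (congrArg (· / _) e) rfl
  split_ifs with h5
  · rw [apply_one (isIrr_isCharacter ψ.2), ← mul_div_assoc, mul_div_right_comm]
    refine memLocalIdeal_mul_right hM (DefectCard.memLocalIdeal_natDiv hM (Basic.charDegree_pos ψ.2).ne' ?_) (loc_val hM ψ.2 x)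
    have h6 : Nat.card (MulAction.stabilizer T x) ∣ Nat.card (centralizer {y}) := by
      obtain ⟨c, hc⟩ := isConj_iff.1 h5
      refine card_dvd_of_injective (((MulAut.conj c⁻¹).toMonoidHom.comp (N.subtype.comp (T.subtype.comp (Subgroup.subtype _)))).codRestrict _
        fun u => mem_centralizer_singleton_iff.2 ?_) fun a b e => Subtype.ext (Subtype.ext (Subtype.ext ((MulAut.conj c⁻¹).injective (congrArg Subtype.val e))))
      have e : (u.1.1.1 : H) * x * (u.1.1.1)⁻¹ = x := congrArg Subtype.val u.2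
      rw [← hc, mul_inv_eq_iff_eq_mul] at e
      show c⁻¹ * u.1.1.1 * c⁻¹⁻¹ * y = y * (c⁻¹ * u.1.1.1 * c⁻¹⁻¹)
      calc _ = c⁻¹ * (u.1.1.1 * (c * y * c⁻¹)) * c := by group
        _ = _ := by rw [e]; group
    have h7 := nu_le_of_dvd Nat.card_pos.ne' h6
    have h8 := nu_le_of_dvd (mul_ne_zero Nat.card_pos.ne' Nat.card_pos.ne') h4
    rw [← (MulAction.stabilizer T x).card_mul_index, Nat.factorization_mul Nat.card_pos.ne' Nat.card_pos.ne',
      Nat.factorization_mul (mul_ne_zero Nat.card_pos.ne' index_ne_zero_of_finite) Nat.card_pos.ne',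
      Nat.factorization_mul Nat.card_pos.ne' index_ne_zero_of_finite] at h8
    simp only [Finsupp.add_apply] at h8
    omega
  · rw [mul_zero]
    exact memLocalIdeal_zero hM

variable (hχ : IsIrrCharacter H χ) (ho : Odd (orderOf y)) (hy : Good M χ y) (hS : IsPGroup 2 S) (hSy : S ≤ centralizer {y})
  (hs : (Nat.card (centralizer {y})).factorization 2 ≤ (Nat.card S).factorization 2)
include hχ ho hy hS hSy hs

theorem exists_const (hK : S ≤ normalizer (K : Set H)) {t : K} (ht : (t : H) ∈ S) (hC : centralizer {(t : H)} ≤ K)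
    {f : K → ℂ} (hf : IsGeneralizedCharacter K f) (h1 : ∀ u z : K, IsPPart 2 u z → IsConj t z → f u = χ u)
    (h2 : ∀ s (h : s ∈ S) x, f (K.normalizerMonoidHom ⟨s, hK h⟩ x) = f x) {σ : ℂ ≃+* ℂ} (hσ : Two σ) (h3 : Fix σ f) :
    ∃ ψ, IsIrrCharacter K ψ ∧ classInner f ψ ≠ 0 ∧ H0 M ψ ∧ Fix σ ψ := by
  classical
  have := isPrime hM
  have := finite_irr (G := K)
  have := Fintype.ofFinite (IrrCharacter K)
  have hty : Commute (t : H) y := mem_cen.1 (hSy ht)
  let y' : K := ⟨y, hC (mem_cen.2 hty.symm)⟩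
  have ho' : Odd (orderOf y') := by rwa [orderOf_mk]
  have ht' : ∃ k, orderOf t = 2 ^ k := by
    rw [← orderOf_coe]
    exact ord_of_mem hS ht
  have hc : Commute t y' := Subtype.ext hty
  have hp : IsPPart 2 (t * y') t := ⟨y', rfl, hc, ht', ho'.not_two_dvd_nat⟩
  choose n hn using fun ψ : IrrCharacter K => VChar.gen_inner hf (VChar.gen_of_irr ψ.2)
  let U : IrrCharacter K → Prop := fun ψ => ¬ MemLocalIdeal M (inducedCentralChar K (ψ : K → ℂ) y)
  let g : IrrCharacter K → ℂ := fun ψ => if U ψ then classInner f ψ * (ψ : K → ℂ) y' else 0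
  have hg : ∀ ψ, MemLocalRing M (g ψ) := fun ψ => by
    simp only [g]
    split_ifs
    exacts [memLocalRing_mul hM (hn ψ ▸ memLocalRing_intCast hM _) (loc_val hM ψ.2 _), memLocalRing_zero hM]
  have h4 : ¬ MemLocalIdeal M (∑ ψ, g ψ) := by
    have e1 := wSum_congr hM (θ := f) (ω := fun b => if ∃ ξ ∈ b, U ξ then 1 else 0) (ω' := fun _ => 1) (s := t * y')
      fun b hb => (em (∃ ξ ∈ b, U ξ)).imp (if_pos ·) fun e => by
        have e2 := (S0925.result 2 M hM).1 (f - fun k : K => χ k) (fun a b => congrArg₂ (· - ·) (VChar.gen_isClassFunction hf a b)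
          (isIrr_isClassFunction hχ a b)) t ht' (fun u z a b => sub_eq_zero.2 (h1 u z a b)) b hb _ t hp (IsConj.refl t)
        rwa [blockPart_sub, Pi.sub_apply, nagao hM ht' hC (Basic.isPBlock_blockOf ⟨χ, hχ⟩) (Basic.mem_blockOf_self ⟨χ, hχ⟩) hb
          (fun e3 => ?_) hc.symm ho'.not_two_dvd_nat, sub_zero] at e2
        obtain ⟨ξ, rfl⟩ := hb
        exact e ⟨ξ, Basic.mem_blockOf_self ξ, fun e4 => hy.2 ((memLocalIdeal_congr hM (e3.2.2 ξ (Basic.mem_blockOf_self ξ) _
          (Basic.mem_blockOf_self ⟨χ, hχ⟩) y)).1 e4)⟩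
    rw [wSum_one M (VChar.gen_isClassFunction hf), h1 _ t hp (IsConj.refl t), wSum_eq, Finset.sum_apply] at e1
    rw [← memLocalIdeal_congr hM (z := χ (t * y)) ?_]
    · exact hy.unit hM hχ ho (ord_of_mem hS ht) hty
    rw [show χ (t * y) = _ from e1.symm, ← Finset.sum_sub_distrib]
    refine memLocalIdeal_sum hM _ _ fun ψ _ => ?_
    have e2 : (∃ ξ ∈ blockOf M (ψ : K → ℂ), U ξ) ↔ U ψ := ⟨fun ⟨ξ, a, b⟩ e => b ((memLocalIdeal_congr hM
      (Induced.memLocalIdeal_induced_sub (isPrime hM) K ψ ξ a y)).1 e), fun e => ⟨ψ, Basic.mem_blockOf_self ψ, e⟩⟩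
    simp only [g, e2, Pi.smul_apply, smul_eq_mul]
    split_ifs
    · rw [one_mul, ← mul_sub]
      exact memLocalIdeal_mul_left hM (hn ψ ▸ memLocalRing_intCast hM _) (sub_mem hM ψ.2 ht' hc ho')
    · simpa using memLocalIdeal_zero hM
  let _ : MulAction S (IrrCharacter K) := MulAction.compHom _ ((na K).comp (inclusion hK))
  have h5 := sum_fixed hM hS hg (fun s ψ => by
    have e1 : K.normalizerMonoidHom (inclusion hK s) y' = y' := Subtype.ext (mul_inv_eq_iff_eq_mul.2 (mem_cen.1 (hSy s.2)))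
    have e2 := na_apply (inclusion hK s) ψ y'
    have e3 := Clifford.classInner_comp_mulEquiv (K.normalizerMonoidHom (inclusion hK s)) f (na K (inclusion hK s) ψ)
    rw [show f ∘ K.normalizerMonoidHom (inclusion hK s) = f from funext (h2 s s.2), show (_ : K → ℂ) ∘ _ = ψ from funext (na_apply _ ψ)] at e3
    rw [e1] at e2
    exact if_congr (not_congr (by rw [← ind_na (inclusion hK s) ψ]; rfl)) (congrArg₂ (· * ·) e3.symm e2) rfl) h4
  obtain ⟨b, hb⟩ := hσ.exists_pow (n := Nat.card K) Nat.card_pos.ne'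
  have h6 : Hz.act K σ ^ 2 ^ b = 1 := by
    rw [← map_pow]
    exact Equiv.ext fun ψ => Subtype.ext (funext (fix_of_roots Nat.card_pos.ne' (fun _ => pow_card_eq_one') hb (isIrr_isCharacter ψ.2)))
  have h7 := sum_fixed hM (Q := zpowers (Hz.act K σ)) (fun ⟨_, k, hk⟩ => ⟨b, Subtype.ext (by
      subst hk
      exact ((zpow_natCast _ _).symm.trans (zpow_comm _ _ _)).trans (by rw [zpow_natCast, h6, one_zpow]; rfl))⟩)
    (fun ψ => by split_ifs; exacts [hg ψ, memLocalRing_zero hM]) (fun u ψ => by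
      obtain ⟨k, hk⟩ := (Submonoid.mem_powers_iff _ _).1 (mem_powers_iff_mem_zpowers.2 u.2)
      have e1 := GaloisIrr.classInner_map (σ ^ k) (χ := f) (isIrr_isCharacter ψ.2)
      rw [show (fun g => (σ ^ k) (f g)) = f from funext (h3.pow k), hn ψ, map_intCast, ← hn ψ] at e1
      rw [show u • ψ = Hz.act K (σ ^ k) ψ by rw [map_pow, hk]; rfl]
      refine if_congr (forall_congr' fun s => (Hz.act K (σ ^ k)).injective.eq_iff (a := s • ψ)) (if_congr (not_congr (by
        rw [ind_act ho (hσ.pow k)])) (congrArg₂ (· * ·) e1 (two_fix_odd (isIrr_isCharacter ψ.2) (hσ.pow k) ho')) rfl) rfl) h5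
  obtain ⟨ψ, -, h8⟩ := Local.exists_not_memLocalIdeal_of_sum h7
  simp only [g] at h8
  split_ifs at h8 with h9 h10 h11
  · refine ⟨ψ, ψ.2, fun e => h8 (by rw [e, zero_mul]; exact memLocalIdeal_zero hM), ⟨y', good_of_le hM ψ.2
      (fun e => h8 (memLocalIdeal_mul_left hM (hn ψ ▸ memLocalRing_intCast hM _) e)) ?_⟩,
      fun x => congrFun (congrArg Subtype.val (h9 ⟨_, mem_zpowers _⟩)) x⟩
    have e1 := nu_le hM hs hK ψ (fun s h => h10 ⟨s, h⟩) h11
    have e2 := nu_le_of_dvd Nat.card_pos.ne' (card_dvd_of_le (H := (K ⊓ S).subgroupOf K) (K := centralizer {y'})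
      fun x hx => mem_cen.2 (Subtype.ext (mem_cen.1 (hSy hx.2))))
    rw [Nat.card_congr (subgroupOfEquivOfLe inf_le_left).toEquiv] at e2
    rw [← (centralizer {y'}).card_mul_index, Nat.factorization_mul Nat.card_pos.ne' index_ne_zero_of_finite,
      Finsupp.add_apply] at e1
    omega
  all_goals exact absurd (memLocalIdeal_zero hM) h8

omit [Fintype K] in
/-- **a fixed constituent of height zero** -/
theorem exists_rs {r m N : ℕ} [Fact r.Prime] {P : Subgroup H} (hB : Big H r m) (hP : IsPGroup r P) (hr : RatR r χ)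
    (hb : bd m 1 < r) (h2 : 2 ≠ r) (hN : 2 ^ (Nat.card H).factorization 2 ≤ N) (hb' : (N ^ 4 * 1 + 1) ^ 2 < r)
    (hSP : S ≤ normalizer (P : Set H)) {t : H} (ht : t ∈ S) (hC : centralizer {t} ≤ centralizer (P : Set H))
    {L : Type} [Group L] [Fintype L] {ι : L →* H} (hι : Function.Injective ι) (hL : ι.range = centralizer (P : Set H))
    {σ : ℂ ≃+* ℂ} (hσ : Two σ) (h3 : Fix σ χ) :
    ∃ ψ, IsIrrCharacter L ψ ∧ classInner (rs r P χ ∘ ι) ψ ≠ 0 ∧ H0 M ψ ∧ Fix σ ψ := by
  have := Fintype.ofFinite (centralizer (P : Set H))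
  have h4 := sm_irr hχ hr
  have h5 : ∀ s ∈ S, ∀ a, a ∈ P ↔ s * a * s⁻¹ ∈ P := fun s h => mem_normalizer_iff.1 (hSP h)
  have hK : S ≤ normalizer (centralizer (P : Set H) : Set H) := fun s h => mem_normalizer_fintype fun c hc a ha => by
    have e := hc _ ((h5 _ (inv_mem h) a).1 ha)
    calc _ = s * (s⁻¹ * a * s⁻¹⁻¹ * c) * s⁻¹ := by group
      _ = _ := by rw [e]; group
  obtain ⟨ψ, h6, h7, ⟨x, h8⟩, h9⟩ := exists_const hM hχ ho hy hS hSy hs hK (t := ⟨t, hC (mem_cen.2 (Commute.refl t))⟩) ht hC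
    (hB.rs_gen hP h4 hb (subtype_injective _) (range_subtype _)) (fun u z a b => by
      obtain ⟨c, rfl⟩ := isConj_iff.1 b
      refine hB.curtis' hP h4 hb h2 (isPPart_coe a) (c * _ * c⁻¹).2 (fun x e _ => ?_) hN hb'
      have e1 := hC (x := c.1⁻¹ * x * c) (mem_cen.2 (by simpa [mul_assoc] using e.map (MulAut.conj c.1⁻¹)))
      exact (mul_mem_cancel_left (inv_mem c.2)).1 ((mul_mem_cancel_right c.2).1 e1))
    (fun s h x => hB.rs_conj hP h4 hb (h5 s h) x.2) hσ fun g => rs_fix h3 _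
  let e : L ≃* centralizer (P : Set H) := (MonoidHom.ofInjective hι).trans (MulEquiv.subgroupCongr hL)
  have h10 := isIrr_comp' e.toMonoidHom e.surjective h6
  exact ⟨_, h10, (Clifford.classInner_comp_mulEquiv e _ ψ).trans_ne h7,
    ⟨_, h8.quot hM e.symm.toMonoidHom e.symm.surjective h6 h10 fun g => congrArg ψ (e.apply_symm_apply g)⟩, fun g => h9 _⟩

end Cfsg.Agent.HZ.L.T3.Blk1
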