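import Cfsg.Agent.HZ.L.T3.Lev
import Cfsg.Agent.HZ.L.T3.Blk1
import Cfsg.Agent.HZ.L.Ind2

/-!
# HZ/L/T3: defect groups which are not central (helper4)
-/

set_option autoImplicit false
set_option linter.unusedSectionVars false

namespace Cfsg.Agent.HZ.L.T3

open Cfsg Cfsg.Agent.DL Cfsg.Agent.KZ.Lie Cfsg.Agent.HZ.Gen Cfsg.Agent.ODD.Red Subgroup

variable {p : ℕ} [Fact p.Prime] {k : Type} [Field k] [CharP k p] [IsAlgClosed k] {Y : Type} [Group Y] {N : Type}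
  [Fintype N] [DecidableEq N] {ρ : Y →* GL N k} {F : MulAut Y} {G : Subgroup Y} {D : Datum p ρ F G} [Fintype ↥(GF F G)]
  {j : ℕ} {B : Mat D.R} {f : Fr D} {w : D.W} {c : Lbl D} {χ : ↥(GF F G) → ℂ} {M : Ideal AlgInt} {σ : ℂ ≃+* ℂ}

variable (p) in
theorem fm0 : Fm0 p SL.L := ⟨SL.ok, fun _ _ _ _ _ ⟨T⟩ => .inl T.ex, SL.tri⟩

/-- **the first case** -/
theorem case1 (T : Tools p) (hp : p ≠ 2) (hE : ExAll p) (hM : IsPModular 2 M) (hσ : Two σ) (h : St D j B)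
    (ha : SL.L.adm (rts D) B) (ih : GdLt p SL.L M σ (nr D)) (hχ : IsIrrCharacter _ χ) (hR : Rich D B χ) (hf : Fix σ χ)
    {y : GF F G} (ho : Odd (orderOf y)) (hy : Good M χ y) {S : Subgroup ↥(GF F G)} (hS : IsPGroup 2 S)
    (hSy : S ≤ centralizer {y}) (hs : (Nat.card (centralizer {y})).factorization 2 ≤ (Nat.card S).factorization 2)
    (h2 : ¬ S ≤ Lev.ZF F G) (hc : Has f χ w c) : Gd c := by
  obtain ⟨t, ht, r, P, s, lam, hu, hr, h1, h3, h4, h5, h6, -⟩ := ha.elim fun A => Lev.main hp (T.sb D h.qs) h A hχ hR hS h2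
  have := Fact.mk hu.prime
  have := D.amb.finite_GF s.K
  have := Fintype.ofFinite ↥(GF F s.K)
  have o := SL.ok D j B h ha
  have h7 := two_le_sz D
  have h8 := hu.lt (m := sz D ^ 10) le_rfl (by norm_num)
  have h9 : sz D ^ 4 * 1 + 1 ≤ sz D ^ 5 := by
    have := Nat.one_le_pow 4 (sz D) (by omega)
    rw [pow_succ _ 4]
    nlinarith
  obtain ⟨ψ, hψ, k1, k2, k3⟩ := Blk1.exists_rs hM hχ ho hy hS hSy hs hu.big_GF h1.grp hr hu.bd_one (by
    have := hu.lt (m := 1) (i := 0) le_rfl (by norm_num)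
    omega) (pc_le_sz D) (((Nat.pow_le_pow_left h9 2).trans (pow_mul _ _ _).ge).trans_lt (Nat.lt_of_succ_lt h8)) h6 ht h5
    s.ι_injective h1.range hσ hf
  obtain ⟨u, c', k4, k5⟩ := br_lab T o h ((fm0 p).one T hp hE D j B h ha) hu h1 hχ hr hψ k1 hc
  exact (SL.tri D j B h ha).hom c' c (o.symm _ _ k5) k4.fo hc.fo (ih s.E j _ (h.sub h1.qs) (o.adm_sub h h1.qs h3)
    (s.nr_lt (h3 ▸ h4)) _ ψ hψ k2 k3 u c' k4)

end Cfsg.Agent.HZ.L.T3
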