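import Cfsg.Agent.HZ.L.T3.Case1
import Cfsg.Agent.HZ.L.T3.Van
import Cfsg.Agent.HZ.L.T3.Blk2
import Cfsg.Agent.HZ.L.T3.Fin

/-!
# HZ/L/T3: the labels `ht` of `SL` and `SU` (helper4)
-/

set_option autoImplicit false
set_option linter.unusedSectionVars false

namespace Cfsg.Agent.HZ.L.T3

open Cfsg Cfsg.Agent.DL Cfsg.Agent.DL.PP Cfsg.Agent.KZ.Lie Cfsg.Agent.HZ.Gen Cfsg.Agent.ODD.Red Subgroup Matrix

variable {p : ℕ} [Fact p.Prime] {k : Type} [Field k] [CharP k p] [IsAlgClosed k] {Y : Type} [Group Y] {N : Type}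
  [Fintype N] [DecidableEq N] {ρ : Y →* GL N k} {F : MulAut Y} {G : Subgroup Y} {D : Datum p ρ F G} [Fintype ↥(GF F G)]
  {j : ℕ} {B : Mat D.R} {f : Fr D} {w : D.W} {c : Lbl D} {χ : ↥(GF F G) → ℂ} {M : Ideal AlgInt}

attribute [local instance] Reg.gY Reg.fN Reg.dN Reg.fin

/-- the odd part of a label -/
theorem exists_odd (hc : Fx D w c) : ∃ n m : ℕ, 4 ∣ n ∧ ¬ 2 ∣ m ∧ (c ^ n) ^ m = 1 ∧ (c ^ n)⁻¹ * c ∈ LV.Blk.LS D 2 w := by
  obtain ⟨i, m, hm, e⟩ := Nat.exists_eq_two_pow_mul_odd (ordT_ne (D := D) w)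
  have h1 := LV.Blk.pow_ordT hc
  obtain ⟨n, h2, h3⟩ := Nat.chineseRemainder (n := 2 ^ (i + 2)) (m := m) (hm.coprime_two_left.pow_left _) 0 1
  have h4 := (Nat.modEq_zero_iff_dvd).1 h2
  refine ⟨n, m, (pow_dvd_pow 2 (Nat.le_add_left 2 i)).trans h4, hm.not_two_dvd_nat, ?_, fx_mul (fx_inv (fx_pow hc n)) hc, i, ?_⟩
  · obtain ⟨a, rfl⟩ := (pow_dvd_pow 2 (Nat.le_add_right i 2)).trans h4
    rw [← pow_mul, mul_right_comm, ← e, pow_mul, h1, one_pow]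
  · have h5 : (c ^ 2 ^ i) ^ n = (c ^ 2 ^ i) ^ 1 := pow_eq_pow_iff_modEq.2
      (h3.of_dvd (orderOf_dvd_of_pow_eq_one (by rw [← pow_mul, ← e, h1])))
    rw [mul_pow, inv_pow, ← pow_mul, mul_comm n, pow_mul, h5, pow_one, inv_mul_cancel]

/-- **the second case** -/
theorem case2 (hp : p ≠ 2) (hE : ExAll p) (hM : IsPModular 2 M) (h : St D j B) (T : SL.TA (rts D) B)
    (hχ : IsIrrCharacter _ χ) {y : GF F G} (hy : Good M χ y) {S : Subgroup ↥(GF F G)} (hS : IsPGroup 2 S)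
    (hSy : S ≤ centralizer {y}) (hs : (Nat.card (centralizer {y})).factorization 2 ≤ (Nat.card S).factorization 2)
    (h2 : S ≤ Lev.ZF F G) (hc : Has f χ w c) (ht : SL.L.ht (rts D) (D.Wm w * B) c) : False := by
  obtain ⟨ψ, -, k1, k2, k3, k4⟩ := Blk2.main hM hχ hy hS hSy hs (h2.trans Lev.ZF_le)
  obtain ⟨n, m, h3, h4, h5, h6⟩ := exists_odd hc.fx
  obtain ⟨R, hR⟩ := Van.exists_reg h f
  obtain ⟨s, e, ψ', h7, h8⟩ := R.has (Van.has_odd hp.symm hχ hS h2 k1 k2 k3 (fx_pow hc.fx n) h4 h5 h6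
    (by rwa [mul_inv_cancel_left]))
  refine fin T R hp h ht h3 e ψ'.2 h7 fun w₁ h9 x hx a ha => by_contra fun h10 => ?_
  obtain ⟨u, u1, u2, u3⟩ := Van.exists_inv hp hx ha h10
  obtain ⟨u', u4, u5⟩ := hR w₁ u u1
  refine Van.van hp.symm u4 ⟨1, ?_⟩ (fun g x a b => k4 _ R.ι R.inj R.comm _ ψ'.2 h8 g x u a (u5.trans b) fun e => u3 (h2 e))
    (fun η h11 h12 h13 => h12 ?_) h9
  · obtain ⟨g, rfl⟩ := isConj_iff.1 u5
    rw [pow_one, ← u2, ← orderOf_injective R.ι R.inj u]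
    exact (MulAut.conj g).orderOf_eq _
  obtain ⟨A, hA, h14⟩ := hE R.D' j _ R.st (R.ex T.ex) R.f' _ ψ'.2 _ _ _ _ h13 h9
  have h15 : s ^ m * η ^ m = s ^ m := funext fun i => by
    rw [← mul_pow, ← chr_single i (_ ^ m), ← h14.pow m, Van.tl_self (fun b hb => ?_) hA, chr_single]
    obtain ⟨a, ha⟩ := R.e.surjective ⟨b, hb⟩
    rw [show b.2 = _ from ha ▸ R.e₂ a, ← chr_pl, show pl R.J (s ^ m) = pl R.J s ^ m from funext fun _ => map_pow _ _ _, e, h5,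
      map_one]
  obtain ⟨i, hi⟩ := h11.2
  exact (pow_eq_one_iff_of_coprime ((Nat.prime_two.coprime_iff_not_dvd.2 h4).pow_left i)).1 ⟨hi, mul_eq_left.1 h15⟩

variable (p) in
/-- **the labels `ht` in height zero** -/
theorem htI (T : Tools p) (hp : p ≠ 2) (hE : ExAll p) : HtI p SL.L := by
  intro M hM σ hσ k _ _ _ Y _ N _ _ ρ F G D _ j B h ha ih f χ hχ hR h0 hf w c hc ht
  obtain ⟨y, ho, hy⟩ := h0.odd hM hχ
  obtain ⟨P⟩ : Nonempty (Sylow 2 (centralizer ({y} : Set (GF F G)))) := inferInstance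
  have h1 : (Nat.card (centralizer {y})).factorization 2 ≤ (Nat.card (P.1.map (centralizer {y}).subtype)).factorization 2 := by
    rw [card_map_of_injective (subtype_injective _), P.card_eq_multiplicity, Nat.prime_two.factorization_pow,
      Finsupp.single_eq_same]
  by_cases h2 : P.1.map (centralizer {y}).subtype ≤ Lev.ZF F G
  · exact ha.elim fun A => (case2 hp hE hM h A hχ hy (P.2.map _) (map_subtype_le _) h1 h2 hc ht).elim
  · exact case1 T hp hE hM hσ.1 h ha ih hχ hR hf ho hy (P.2.map _) (map_subtype_le _) h1 h2 hc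

/-- **the family of `SL` and `SU`** -/
theorem res (h : Pk) (p : ℕ) [Fact p.Prime] (hp : p ≠ 2) : Res p SL.L :=
  res_of0 (h p hp).1 hp (h p hp).2 (fm0 p) (htI p (h p hp).1 hp (h p hp).2)

end Cfsg.Agent.HZ.L.T3
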